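import Mathlib
import Groth.Agent.Lib.Helper2.ProjUPK
import Groth.Agent.Lib.Helper5.SepPT.E0

/-! # Segre embedding, part A: the invertible module `pr₁^*O(1) ⊗ pr₂^*O(1)` and its sections. -/

set_option autoImplicit false
universe u
open CategoryTheory CategoryTheory.Limits AlgebraicGeometry HomogeneousLocalization Opposite
  TopologicalSpace

namespace Groth.Agent.H5.Segre

open Groth.Agent.LD Twist Groth.Agent.H2.PUP

section General
variable {X : Scheme.{u}}

/-- global sections which are locally bases generate. -/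
lemma generatedBy_of_local_basis (L : X.Modules) {J : Type*} (s : J → ProjUP.Γm L)
    (h : ∀ x : X, ∃ (j : J) (U : X.Opens), x ∈ U ∧
      QC.IsBasisOver L U (L.presheaf.map (homOfLE (le_top : U ≤ ⊤)).op (s j))) :
    ProjUP.GeneratedBy L s := by
  intro x
  obtain ⟨j, U, hxU, hb⟩ := h x
  have hbij := Groth.Agent.H5.SepPT.bijective_toSpanSingleton_germ _ _ _ hb x hxU
  rw [eq_top_iff]
  intro z _
  obtain ⟨a, rfl⟩ := hbij.2 z
  rw [LinearMap.toSpanSingleton_apply]
  refine Submodule.smul_mem _ _ (Submodule.subset_span ⟨j, ?_⟩)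
  exact (QC.germ_res L x (le_top : U ≤ ⊤) hxU (s j)).symm

end General


section Setup
variable (n m : ℕ) (R : Type u) [CommRing R]

/-- the `i`-th coordinate vector of `R^{n+1}`. -/
noncomputable abbrev ei (i : Fin (n + 1)) : Fin (n + 1) → R := Pi.single i 1

/-- the `i`-th coordinate `T_i`, in the form `ι e_i`. -/
noncomputable abbrev xi (i : Fin (n + 1)) : MvPolynomial (Fin (n + 1)) R := ιPn n R (ei n R i)

lemma xi_mem (i : Fin (n + 1)) : xi n R i ∈ CohB1.polyGrading n R 1 := ιPn_mem n R _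

/-- the standard chart `D₊(T_i)`. -/
noncomputable abbrev Dp (i : Fin (n + 1)) : (Proj (CohB1.polyGrading n R)).Opens :=
  Proj.basicOpen (CohB1.polyGrading n R) (xi n R i)

lemma iSup_Dp : ⨆ i, Dp n R i = ⊤ :=
  iSup_basicOpen_eq_top' (CohB1.polyGrading n R) (ιPn n R) (ιPn_mem n R)
    (isSymmetricAlgebra_ιPn n R) (fun j : Fin (n + 1) => ei n R j) (span_single n R)

lemma exists_mem_Dp (y : Proj (CohB1.polyGrading n R)) : ∃ i, y ∈ Dp n R i := by
  have hy : y ∈ (⨆ i, Dp n R i) := by rw [iSup_Dp]; trivial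
  exact Opens.mem_iSup.mp hy

/-- the product `P^n_R ×_R P^m_R`. -/
noncomputable abbrev XX : Scheme.{u} :=
  pullback (projStr (CohB1.polyGrading n R)) (projStr (CohB1.polyGrading m R))

/-- first projection. -/
noncomputable abbrev pr1 : XX n m R ⟶ Proj (CohB1.polyGrading n R) := pullback.fst _ _

/-- second projection. -/
noncomputable abbrev pr2 : XX n m R ⟶ Proj (CohB1.polyGrading m R) := pullback.snd _ _

/-- the structure morphism of the product. -/
noncomputable abbrev qq : XX n m R ⟶ Spec (CommRingCat.of R) :=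
  pr1 n m R ≫ projStr (CohB1.polyGrading n R)

lemma qq_eq : qq n m R = pr2 n m R ≫ projStr (CohB1.polyGrading m R) := pullback.condition

/-- `pr₁^* O(1)`. -/
noncomputable abbrev L1 : (XX n m R).Modules :=
  (Scheme.Modules.pullback (pr1 n m R)).obj (twist (CohB1.polyGrading n R) 1)

/-- `pr₂^* O(1)`. -/
noncomputable abbrev L2 : (XX n m R).Modules :=
  (Scheme.Modules.pullback (pr2 n m R)).obj (twist (CohB1.polyGrading m R) 1)

/-- `O(1,1)`. -/
noncomputable abbrev LL : (XX n m R).Modules := CohB1.tensorMod (L1 n m R) (L2 n m R)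

/-- `pr₁^* T_i`. -/
noncomputable def aa (i : Fin (n + 1)) : Γ(L1 n m R, ⊤) :=
  ProjUP.pullSec (pr1 n m R) (twist (CohB1.polyGrading n R) 1)
    (sec1 (CohB1.polyGrading n R) (xi_mem n R i))

/-- `pr₂^* T_j`. -/
noncomputable def bb (j : Fin (m + 1)) : Γ(L2 n m R, ⊤) :=
  ProjUP.pullSec (pr2 n m R) (twist (CohB1.polyGrading m R) 1)
    (sec1 (CohB1.polyGrading m R) (xi_mem m R j))

/-- the section `x_i ⊗ y_j` of `O(1,1)`. -/
noncomputable def sg (i : Fin (n + 1)) (j : Fin (m + 1)) : Γ(LL n m R, ⊤) :=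
  SecTwist.tmul (L1 n m R) (L2 n m R) ⊤ (aa n m R i) (bb n m R j)

/-- the chart `pr₁⁻¹ D₊(x_i) ∩ pr₂⁻¹ D₊(y_j)`. -/
noncomputable abbrev WW (i : Fin (n + 1)) (j : Fin (m + 1)) : (XX n m R).Opens :=
  pr1 n m R ⁻¹ᵁ Dp n R i ⊓ pr2 n m R ⁻¹ᵁ Dp m R j

lemma WW_le1 (i : Fin (n + 1)) (j : Fin (m + 1)) : WW n m R i j ≤ pr1 n m R ⁻¹ᵁ Dp n R i :=
  inf_le_left

lemma WW_le2 (i : Fin (n + 1)) (j : Fin (m + 1)) : WW n m R i j ≤ pr2 n m R ⁻¹ᵁ Dp m R j :=
  inf_le_right

lemma exists_mem_WW (x : XX n m R) : ∃ i j, x ∈ WW n m R i j := by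
  obtain ⟨i, hi⟩ := exists_mem_Dp n R (pr1 n m R x)
  obtain ⟨j, hj⟩ := exists_mem_Dp m R (pr2 n m R x)
  exact ⟨i, j, hi, hj⟩

/-- restriction of `sg` to an open. -/
lemma sg_res (i : Fin (n + 1)) (j : Fin (m + 1)) (U : (XX n m R).Opens) :
    (LL n m R).presheaf.map (homOfLE (le_top : U ≤ ⊤)).op (sg n m R i j) =
      SecTwist.tmul (L1 n m R) (L2 n m R) U
        ((L1 n m R).presheaf.map (homOfLE (le_top : U ≤ ⊤)).op (aa n m R i))
        ((L2 n m R).presheaf.map (homOfLE (le_top : U ≤ ⊤)).op (bb n m R j)) :=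
  QC.tmul_res (L1 n m R) (L2 n m R) le_top _ _

/-- `sg i j` is a basis over any open inside `WW i j`. -/
lemma isBasisOver_sg (i : Fin (n + 1)) (j : Fin (m + 1)) {U : (XX n m R).Opens}
    (hU : U ≤ WW n m R i j) :
    QC.IsBasisOver (LL n m R) U
      ((LL n m R).presheaf.map (homOfLE (le_top : U ≤ ⊤)).op (sg n m R i j)) := by
  rw [sg_res]
  exact QC.IsBasisOver.tmul
    (isBasisOver_res_pullSec_sec1 (CohB1.polyGrading n R) (ιPn n R) (ιPn_mem n R)
      (isSymmetricAlgebra_ιPn n R) (pr1 n m R) (xi_mem n R i) (hU.trans (WW_le1 n m R i j)))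
    (isBasisOver_res_pullSec_sec1 (CohB1.polyGrading m R) (ιPn m R) (ιPn_mem m R)
      (isSymmetricAlgebra_ιPn m R) (pr2 n m R) (xi_mem m R j) (hU.trans (WW_le2 n m R i j)))

/-- the function `pr₁^♯(x_k / x_i)` on an open inside `pr₁⁻¹ D₊(x_i)`. -/
noncomputable def al (i k : Fin (n + 1)) {U : (XX n m R).Opens}
    (hU : U ≤ pr1 n m R ⁻¹ᵁ Dp n R i) : Γ(XX n m R, U) :=
  chartHom (CohB1.polyGrading n R) (pr1 n m R) (xi n R i) hU
    (frac1 (CohB1.polyGrading n R) (ιPn n R) (ιPn_mem n R) (xi_mem n R i) (ei n R k))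

/-- the function `pr₂^♯(y_l / y_j)` on an open inside `pr₂⁻¹ D₊(y_j)`. -/
noncomputable def be (j l : Fin (m + 1)) {U : (XX n m R).Opens}
    (hU : U ≤ pr2 n m R ⁻¹ᵁ Dp m R j) : Γ(XX n m R, U) :=
  chartHom (CohB1.polyGrading m R) (pr2 n m R) (xi m R j) hU
    (frac1 (CohB1.polyGrading m R) (ιPn m R) (ιPn_mem m R) (xi_mem m R j) (ei m R l))

/-- the transition formula `x_k ⊗ y_l = (x_k/x_i)(y_l/y_j) · x_i ⊗ y_j` on `WW i j`. -/
lemma sg_res_eq_smul (i k : Fin (n + 1)) (j l : Fin (m + 1)) {U : (XX n m R).Opens}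
    (hU : U ≤ WW n m R i j) :
    (LL n m R).presheaf.map (homOfLE (le_top : U ≤ ⊤)).op (sg n m R k l) =
      (al n m R i k (hU.trans (WW_le1 n m R i j)) * be n m R j l (hU.trans (WW_le2 n m R i j))) •
        (LL n m R).presheaf.map (homOfLE (le_top : U ≤ ⊤)).op (sg n m R i j) := by
  rw [sg_res, sg_res]
  have h1 : (L1 n m R).presheaf.map (homOfLE (le_top : U ≤ ⊤)).op (aa n m R k) =
      al n m R i k (hU.trans (WW_le1 n m R i j)) •
        (L1 n m R).presheaf.map (homOfLE (le_top : U ≤ ⊤)).op (aa n m R i) :=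
    res_pullSec_sec1_eq_smul (CohB1.polyGrading n R) (pr1 n m R) (xi_mem n R i)
      (xi_mem n R k) (hU.trans (WW_le1 n m R i j))
  have h2 : (L2 n m R).presheaf.map (homOfLE (le_top : U ≤ ⊤)).op (bb n m R l) =
      be n m R j l (hU.trans (WW_le2 n m R i j)) •
        (L2 n m R).presheaf.map (homOfLE (le_top : U ≤ ⊤)).op (bb n m R j) :=
    res_pullSec_sec1_eq_smul (CohB1.polyGrading m R) (pr2 n m R) (xi_mem m R j)
      (xi_mem m R l) (hU.trans (WW_le2 n m R i j))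
  refine (congrArg₂ (SecTwist.tmul (L1 n m R) (L2 n m R) U) h1 h2).trans ?_
  refine (QC.tmul_smul_left _ _ _ _ _ _).trans ?_
  refine (congrArg _ (QC.tmul_smul_right _ _ _ _ _ _)).trans ?_
  exact (mul_smul _ _ _).symm

/-- `O(1,1)` is invertible. -/
lemma isInvertible_LL : PicF.IsInvertible (LL n m R) := by
  rw [QC.isInvertible_iff_exists_isBasisOver]
  intro x
  obtain ⟨i, j, hx⟩ := exists_mem_WW n m R x
  exact ⟨WW n m R i j, _, hx, isBasisOver_sg n m R i j le_rfl⟩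

end Setup

end Groth.Agent.H5.Segre
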