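import Mathlib
import Groth.Agent.Lib.Helper5.Segre.A

/-! # Segre embedding, part B: the morphism and its charts. -/

set_option autoImplicit false
universe u
open CategoryTheory CategoryTheory.Limits AlgebraicGeometry HomogeneousLocalization Opposite
  TopologicalSpace

namespace Groth.Agent.H5.Segre

open Groth.Agent.LD Twist Groth.Agent.H2.PUP

section ProjFact
variable {A : Type u} [CommRing A] {S : Type u} [CommRing S] [Algebra A S]
  (𝒮 : ℕ → Submodule A S) [GradedAlgebra 𝒮]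
  {M : Type u} [AddCommGroup M] [Module A M] (ι : M →ₗ[A] S)
  (hι : ∀ m, ι m ∈ 𝒮 1) (hsym : IsSymmetricAlgebra ι)

include hι hsym in
/-- the non-vanishing locus of `g / f` on `D₊(f)` is `D₊(g) ∩ D₊(f)`. -/
lemma basicOpen_awayToSection {f g : S} (hf : f ∈ 𝒮 1) (hg : g ∈ 𝒮 1) :
    (Proj 𝒮).basicOpen (Proj.awayToSection 𝒮 f (Away.mk 𝒮 hf 1 g (by simpa using hg))) =
      Proj.basicOpen 𝒮 g ⊓ Proj.basicOpen 𝒮 f := by
  have h := QC.genLocus_inf_eq_basicOpen (QC.homOfSection (twist 𝒮 1) (sec1 𝒮 hg))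
    (isBasisOver_sec1 𝒮 hf le_rfl) _
    (by rw [QC.val_homOfSection]; exact sec1_res_eq_smul 𝒮 hf hg)
  rw [genLocus_sec1 𝒮 ι hι hsym hg] at h
  exact h.symm

include hι hsym in
/-- the non-vanishing locus of `r^♯(g / f)`. -/
lemma basicOpen_chartHom {X : Scheme.{u}} (r : X ⟶ Proj 𝒮) {f g : S} (hf : f ∈ 𝒮 1)
    (hg : g ∈ 𝒮 1) {U : X.Opens} (e : U ≤ r ⁻¹ᵁ Proj.basicOpen 𝒮 f) :
    X.basicOpen (chartHom 𝒮 r f e (Away.mk 𝒮 hf 1 g (by simpa using hg))) =
      U ⊓ r ⁻¹ᵁ Proj.basicOpen 𝒮 g := by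
  rw [chartHom_apply, Scheme.basicOpen_appLE, basicOpen_awayToSection 𝒮 ι hι hsym hf hg]
  apply le_antisymm
  · exact inf_le_inf_left _ ((Opens.map r.base).monotone inf_le_left)
  · refine le_inf inf_le_left ?_
    intro x hx
    exact ⟨hx.2, e hx.1⟩

end ProjFact

section Setup
variable (n m : ℕ) (R : Type u) [CommRing R]

/-- the index bijection `Fin (n+1) × Fin (m+1) ≃ Fin (nm+n+m+1)`. -/
def idx : Fin (n + 1) × Fin (m + 1) ≃ Fin (n * m + n + m + 1) :=
  finProdFinEquiv.trans (finCongr (by ring))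

/-- the family of sections `x_i ⊗ y_j`, indexed by `Fin (N+1)`. -/
noncomputable def sfam (e : Fin (n * m + n + m + 1)) : ProjUP.Γm (LL n m R) :=
  sg n m R ((idx n m).symm e).1 ((idx n m).symm e).2

lemma sfam_idx (i : Fin (n + 1)) (j : Fin (m + 1)) : sfam n m R (idx n m (i, j)) = sg n m R i j := by
  rw [sfam, Equiv.symm_apply_apply]

lemma generatedBy_sfam : ProjUP.GeneratedBy (LL n m R) (sfam n m R) := by
  apply generatedBy_of_local_basis
  intro x
  obtain ⟨i, j, hx⟩ := exists_mem_WW n m R x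
  refine ⟨idx n m (i, j), WW n m R i j, hx, ?_⟩
  rw [sfam_idx]
  exact isBasisOver_sg n m R i j le_rfl

/-- the additive map `R^{N+1} → Γ(O(1,1))`. -/
noncomputable abbrev vv : (Fin (n * m + n + m + 1) → R) →+ ProjUP.Γm (LL n m R) :=
  vOfFamily (n * m + n + m) (qq n m R) (LL n m R) (sfam n m R)

lemma vv_single (i : Fin (n + 1)) (j : Fin (m + 1)) :
    vv n m R (ei (n * m + n + m) R (idx n m (i, j))) = sg n m R i j := by
  rw [vOfFamily_single, sfam_idx]

/-- the locus where `x_i ⊗ y_j` generates is the chart `WW i j`. -/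
lemma Xm_eq (i : Fin (n + 1)) (j : Fin (m + 1)) :
    Xm (LL n m R) (vv n m R) (ei (n * m + n + m) R (idx n m (i, j))) = WW n m R i j := by
  rw [Xm, vv_single]
  apply le_antisymm
  · intro x hx
    obtain ⟨k, l, hkl⟩ := exists_mem_WW n m R x
    have h := QC.genLocus_inf_eq_basicOpen (QC.homOfSection (LL n m R) (sg n m R i j))
      (isBasisOver_sg n m R k l le_rfl)
      (al n m R k i (WW_le1 n m R k l) * be n m R l j (WW_le2 n m R k l))
      (by rw [QC.val_homOfSection]; exact sg_res_eq_smul n m R k i l j le_rfl)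
    have hx' : x ∈ CohB1.genLocus (LL n m R) (QC.homOfSection (LL n m R) (sg n m R i j)) ⊓
        WW n m R k l := ⟨hx, hkl⟩
    rw [h, Scheme.basicOpen_mul] at hx'
    obtain ⟨h1, h2⟩ := hx'
    rw [al, basicOpen_chartHom (CohB1.polyGrading n R) (ιPn n R) (ιPn_mem n R)
      (isSymmetricAlgebra_ιPn n R) (pr1 n m R) (xi_mem n R k) (xi_mem n R i)] at h1
    rw [be, basicOpen_chartHom (CohB1.polyGrading m R) (ιPn m R) (ιPn_mem m R)
      (isSymmetricAlgebra_ιPn m R) (pr2 n m R) (xi_mem m R l) (xi_mem m R j)] at h2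
    exact ⟨h1.2, h2.2⟩
  · rw [QC.le_genLocus_iff_isBasisOver, QC.val_homOfSection]
    exact isBasisOver_sg n m R i j le_rfl

/-- **the Segre morphism** `P^n_R ×_R P^m_R ⟶ P^{nm+n+m}_R`. -/
noncomputable def segre : XX n m R ⟶ Proj (CohB1.polyGrading (n * m + n + m) R) :=
  rGlue (CohB1.polyGrading (n * m + n + m) R) (ιPn _ R) (ιPn_mem _ R) (isSymmetricAlgebra_ιPn _ R)
    (qq n m R) (LL n m R) (vv n m R) (vOfFamily_smul _ _ _ _) (isInvertible_LL n m R)
    (generatedBy_vOfFamily _ _ _ _ (generatedBy_sfam n m R))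

lemma segre_projStr :
    segre n m R ≫ projStr (CohB1.polyGrading (n * m + n + m) R) = qq n m R :=
  rGlue_projStr _ _ _ _ _ _ _ _ _ _

lemma WW_le_segre (i : Fin (n + 1)) (j : Fin (m + 1)) :
    WW n m R i j ≤ segre n m R ⁻¹ᵁ Dp (n * m + n + m) R (idx n m (i, j)) := by
  rw [← Xm_eq]
  exact Xm_le_preimage _ _ _ _ _ _ _ _ _ _ _

/-- the chart values of the Segre morphism: `T_kl / T_ij ↦ (x_k / x_i)(y_l / y_j)`. -/
lemma chartHom_segre (i k : Fin (n + 1)) (j l : Fin (m + 1)) :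
    chartHom (CohB1.polyGrading (n * m + n + m) R) (segre n m R)
        (xi (n * m + n + m) R (idx n m (i, j))) (WW_le_segre n m R i j)
        (frac1 (CohB1.polyGrading (n * m + n + m) R) (ιPn _ R) (ιPn_mem _ R)
          (xi_mem (n * m + n + m) R (idx n m (i, j))) (ei (n * m + n + m) R (idx n m (k, l)))) =
      al n m R i k (WW_le1 n m R i j) * be n m R j l (WW_le2 n m R i j) := by
  have hle : WW n m R i j ≤
      Xm (LL n m R) (vv n m R) (ei (n * m + n + m) R (idx n m (i, j))) := (Xm_eq n m R i j).ge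
  have h1 := chartHom_rGlue (CohB1.polyGrading (n * m + n + m) R) (ιPn _ R) (ιPn_mem _ R)
    (isSymmetricAlgebra_ιPn _ R) (qq n m R) (LL n m R) (vv n m R) (vOfFamily_smul _ _ _ _)
    (isInvertible_LL n m R) (generatedBy_vOfFamily _ _ _ _ (generatedBy_sfam n m R))
    (ei (n * m + n + m) R (idx n m (i, j))) (ei (n * m + n + m) R (idx n m (k, l)))
  have h2 := chartHom_res (CohB1.polyGrading (n * m + n + m) R) (segre n m R)
    (xi (n * m + n + m) R (idx n m (i, j)))
    (Xm_le_preimage (CohB1.polyGrading (n * m + n + m) R) (ιPn _ R) (ιPn_mem _ R)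
      (isSymmetricAlgebra_ιPn _ R) (qq n m R) (LL n m R) (vv n m R) (vOfFamily_smul _ _ _ _)
      (isInvertible_LL n m R) (generatedBy_vOfFamily _ _ _ _ (generatedBy_sfam n m R))
      (ei (n * m + n + m) R (idx n m (i, j)))) hle
    (frac1 (CohB1.polyGrading (n * m + n + m) R) (ιPn _ R) (ιPn_mem _ R)
      (xi_mem (n * m + n + m) R (idx n m (i, j))) (ei (n * m + n + m) R (idx n m (k, l))))
  refine h2.symm.trans ?_
  rw [show chartHom (CohB1.polyGrading (n * m + n + m) R) (segre n m R)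
    (xi (n * m + n + m) R (idx n m (i, j))) _ _ = _ from h1]
  apply (isBasisOver_sg n m R i j le_rfl).coord_injective
  rw [← sg_res_eq_smul n m R i k j l le_rfl]
  have h3 := coord_spec (LL n m R) (vv n m R) (ei (n * m + n + m) R (idx n m (i, j)))
    (ei (n * m + n + m) R (idx n m (k, l)))
  have h4 := congrArg ((LL n m R).presheaf.map (homOfLE hle).op) h3
  rw [QC.res_res, QC.smul_res, eB, QC.res_res, vv_single, vv_single] at h4
  exact h4.symm

end Setup

end Groth.Agent.H5.Segre
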