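import Mathlib
import Groth.Agent.Lib.Helper5.Segre.B
import Groth.Agent.Lib.Lead.PN.ToSpec

/-! # Segre embedding, part C: general lemmas (scalars in charts, generation of `S_(f)`,
subrings of pushouts). -/

set_option autoImplicit false
universe u
open CategoryTheory CategoryTheory.Limits AlgebraicGeometry HomogeneousLocalization Opposite
  TopologicalSpace

namespace Groth.Agent.H5.Segre

open Groth.Agent.LD Twist Groth.Agent.H2.PUP

section Scalar
variable {A : Type u} [CommRing A] {S : Type u} [CommRing S] [Algebra A S]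
  (𝒮 : ℕ → Submodule A S) [GradedAlgebra 𝒮]

/-- `chartHom` on scalars is restriction of `toGlobal` of the composite to `Spec A`. -/
theorem chartHom_scalar {X : Scheme.{u}} (r : X ⟶ Proj 𝒮) {f : S} {d : ℕ} (hf : f ∈ 𝒮 d)
    (hd : 0 < d) {U : X.Opens} (e : U ≤ r ⁻¹ᵁ Proj.basicOpen 𝒮 f) (a : A) :
    chartHom 𝒮 r f e (algebraMap (𝒮 0) (Away 𝒮 f) (algebraMap A (𝒮 0) a)) =
      X.presheaf.map (homOfLE (le_top : U ≤ ⊤)).op (ProjUP.toGlobal (r ≫ projStr 𝒮) a) := by
  rw [chartHom_apply]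
  have h1 := ConcreteCategory.congr_hom
    (PN.toSpecZero_appTop_res 𝒮 hf hd) (algebraMap A (𝒮 0) a)
  have h2 : (Proj.awayToSection 𝒮 f).hom
      (algebraMap (𝒮 0) (Away 𝒮 f) (algebraMap A (𝒮 0) a)) =
      (Proj 𝒮).presheaf.map (homOfLE (le_top : Proj.basicOpen 𝒮 f ≤ ⊤)).op
        ((Proj.toSpecZero 𝒮).appTop.hom
          ((Scheme.ΓSpecIso (.of (𝒮 0))).inv.hom (algebraMap A (𝒮 0) a))) := h1.symm
  rw [h2]
  have h3 : (Proj 𝒮).presheaf.map
      (homOfLE (le_top : Proj.basicOpen 𝒮 f ≤ ⊤)).op ≫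
      r.appLE (Proj.basicOpen 𝒮 f) U e =
      r.appTop ≫ X.presheaf.map (homOfLE (le_top : U ≤ ⊤)).op := by
    rw [Scheme.Hom.map_appLE]
    rfl
  have h4 := ConcreteCategory.congr_hom h3 ((Proj.toSpecZero 𝒮).appTop.hom
          ((Scheme.ΓSpecIso (.of (𝒮 0))).inv.hom (algebraMap A (𝒮 0) a)))
  refine h4.trans ?_
  have h5 := ConcreteCategory.congr_hom
    (Scheme.ΓSpecIso_inv_naturality (CommRingCat.ofHom (algebraMap A (𝒮 0)))) a
  have h7 : ProjUP.toGlobal (r ≫ projStr 𝒮) a = r.appTop.hom ((Proj.toSpecZero 𝒮).appTop.hom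
      ((Scheme.ΓSpecIso (.of (𝒮 0))).inv.hom (algebraMap A (𝒮 0) a))) := by
    change (r ≫ projStr 𝒮).appTop.hom ((Scheme.ΓSpecIso (CommRingCat.of A)).inv.hom a) = _
    rw [Scheme.Hom.comp_appTop, Scheme.Hom.comp_appTop]
    change r.appTop.hom ((Proj.toSpecZero 𝒮).appTop.hom
      ((Spec.map (CommRingCat.ofHom (algebraMap A (𝒮 0)))).appTop.hom
        ((Scheme.ΓSpecIso (CommRingCat.of A)).inv.hom a))) = _
    congr 2
    exact h5.symm
  rw [h7]
  rfl

end Scalar

section AwayGen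
variable {A : Type u} [CommRing A] {S : Type u} [CommRing S] [Algebra A S]
  (𝒮 : ℕ → Submodule A S) [GradedAlgebra 𝒮]
  {M : Type u} [AddCommGroup M] [Module A M] (ι : M →ₗ[A] S)

lemma frac1_self (hι : ∀ m, ι m ∈ 𝒮 1) (m : M) : frac1 𝒮 ι hι (hι m) m = 1 := by
  apply HomogeneousLocalization.val_injective
  rw [frac1, Away.val_mk, HomogeneousLocalization.val_one]
  simp only [pow_one]
  exact Localization.mk_self (⟨ι m, ⟨1, pow_one _⟩⟩ : Submonoid.powers (ι m))

/-- a subring of `S_(f)` containing the scalars and the fractions `ι (ν k) / f` of a spanning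
family is everything. -/
theorem away_subring_eq_top (hι : ∀ m, ι m ∈ 𝒮 1) (hsym : IsSymmetricAlgebra ι)
    {K : Type*} (ν : K → M) (hν : Submodule.span A (Set.range ν) = ⊤)
    {f : S} (hf : f ∈ 𝒮 1) (B : Subring (Away 𝒮 f))
    (hA : ∀ a : A, algebraMap (𝒮 0) (Away 𝒮 f) (algebraMap A (𝒮 0) a) ∈ B)
    (hM : ∀ k, frac1 𝒮 ι hι hf (ν k) ∈ B) : B = ⊤ := by
  have hM' : ∀ m', frac1 𝒮 ι hι hf m' ∈ B := by
    intro m'
    have hm' : m' ∈ Submodule.span A (Set.range ν) := hν ▸ Submodule.mem_top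
    induction hm' using Submodule.span_induction with
    | mem x hx =>
      obtain ⟨k, rfl⟩ := hx
      exact hM k
    | zero => rw [frac1_zero]; exact B.zero_mem
    | add x y _ _ hx hy => rw [frac1_add]; exact B.add_mem hx hy
    | smul a x _ hx => rw [frac1_smul]; exact B.mul_mem (hA a) hx
  suffices h : ∀ x, x ∈ B from eq_top_iff.2 fun x _ => h x
  intro x
  obtain ⟨n, a, ha, rfl⟩ := Away.mk_surjective 𝒮 hf x
  have ha' : a ∈ (LinearMap.range ι) ^ n := mem_pow_of_mem 𝒮 ι hι hsym (by simpa using ha)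
  revert ha
  refine Submodule.pow_induction_on_left' (LinearMap.range ι)
    (C := fun n a _ => ∀ ha : a ∈ 𝒮 (n • 1), Away.mk 𝒮 hf n a ha ∈ B)
    ?_ ?_ ?_ ha'
  · intro r ha
    rw [away_mk_zero_eq 𝒮 hf r]
    exact hA r
  · intro x y i hx hy ihx ihy ha
    have hx' : x ∈ 𝒮 (i • 1) := by simpa using pow_range_le 𝒮 ι hι i hx
    have hy' : y ∈ 𝒮 (i • 1) := by simpa using pow_range_le 𝒮 ι hι i hy
    have e : Away.mk 𝒮 hf i (x + y) ha = Away.mk 𝒮 hf i x hx' + Away.mk 𝒮 hf i y hy' := by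
      apply HomogeneousLocalization.val_injective
      rw [HomogeneousLocalization.val_add, Away.val_mk, Away.val_mk, Away.val_mk,
        Localization.add_mk_self]
    rw [e]
    exact B.add_mem (ihx hx') (ihy hy')
  · intro m hm i x hx ih ha
    obtain ⟨m', rfl⟩ := hm
    have hx' : x ∈ 𝒮 (i • 1) := by simpa using pow_range_le 𝒮 ι hι i hx
    have e : Away.mk 𝒮 hf i.succ (ι m' * x) ha = frac1 𝒮 ι hι hf m' * Away.mk 𝒮 hf i x hx' := by
      apply HomogeneousLocalization.val_injective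
      rw [HomogeneousLocalization.val_mul, Away.val_mk, Away.val_mk, Away.val_mk,
        Localization.mk_mul]
      congr 1
      apply Subtype.ext
      change f ^ (i + 1) = f ^ 1 * f ^ i
      ring
    rw [e]
    exact B.mul_mem (hM' m') (ih hx')

end AwayGen

section Pushout

/-- a subring of a pushout of commutative rings containing the images of both legs is everything. -/
theorem subring_eq_top_of_isPushout {A B C P : CommRingCat.{u}} {f : A ⟶ B} {g : A ⟶ C}
    {inl : B ⟶ P} {inr : C ⟶ P} (h : IsPushout f g inl inr) (T : Subring P)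
    (hl : ∀ b, inl.hom b ∈ T) (hr : ∀ c, inr.hom c ∈ T) : T = ⊤ := by
  let ι : CommRingCat.of T ⟶ P := CommRingCat.ofHom T.subtype
  let inl' : B ⟶ CommRingCat.of T := CommRingCat.ofHom (inl.hom.codRestrict T hl)
  let inr' : C ⟶ CommRingCat.of T := CommRingCat.ofHom (inr.hom.codRestrict T hr)
  have hι : Function.Injective ι.hom := Subtype.val_injective
  have hl' : inl' ≫ ι = inl := by ext b; rfl
  have hr' : inr' ≫ ι = inr := by ext c; rfl
  have hw : f ≫ inl' = g ≫ inr' := by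
    ext a
    exact congr($(h.w).hom a)
  let d : P ⟶ CommRingCat.of T := h.desc inl' inr' hw
  have hd : d ≫ ι = 𝟙 P := by
    apply h.hom_ext
    · rw [← Category.assoc, h.inl_desc, hl', Category.comp_id]
    · rw [← Category.assoc, h.inr_desc, hr', Category.comp_id]
  rw [eq_top_iff]
  intro x _
  have hx : ι.hom (d.hom x) = x := congr($(hd).hom x)
  rw [← hx]
  exact (d.hom x).2

end Pushout

end Groth.Agent.H5.Segre
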