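import Mathlib
import Groth.Agent.Lib.Helper5.Segre.C

/-! # Segre embedding, part D: the Segre morphism over a ring is a closed immersion. -/

set_option autoImplicit false
universe u
open CategoryTheory CategoryTheory.Limits AlgebraicGeometry HomogeneousLocalization Opposite
  TopologicalSpace

namespace Groth.Agent.H5.Segre

open Groth.Agent.LD Twist Groth.Agent.H2.PUP

section Setup
variable (n m : ℕ) (R : Type u) [CommRing R]

/-- the preimage of the chart `D₊(T_ij)` under the Segre morphism is `WW i j`. -/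
lemma segre_preimage (i : Fin (n + 1)) (j : Fin (m + 1)) :
    segre n m R ⁻¹ᵁ Dp (n * m + n + m) R (idx n m (i, j)) = WW n m R i j := by
  apply le_antisymm
  · intro x hx
    obtain ⟨k, l, hkl⟩ := exists_mem_WW n m R x
    have h := chartHom_segre n m R k i l j
    have hb := basicOpen_chartHom (CohB1.polyGrading (n * m + n + m) R) (ιPn _ R) (ιPn_mem _ R)
      (isSymmetricAlgebra_ιPn _ R) (segre n m R) (xi_mem (n * m + n + m) R (idx n m (k, l)))
      (xi_mem (n * m + n + m) R (idx n m (i, j))) (WW_le_segre n m R k l)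
    have hx' : x ∈ (XX n m R).basicOpen
        (al n m R k i (WW_le1 n m R k l) * be n m R l j (WW_le2 n m R k l)) := by
      rw [← h]
      refine (SetLike.ext_iff.mp hb x).mpr ?_
      exact ⟨hkl, hx⟩
    rw [Scheme.basicOpen_mul] at hx'
    obtain ⟨h1, h2⟩ := hx'
    rw [al, basicOpen_chartHom (CohB1.polyGrading n R) (ιPn n R) (ιPn_mem n R)
      (isSymmetricAlgebra_ιPn n R) (pr1 n m R) (xi_mem n R k) (xi_mem n R i)] at h1
    rw [be, basicOpen_chartHom (CohB1.polyGrading m R) (ιPn m R) (ιPn_mem m R)
      (isSymmetricAlgebra_ιPn m R) (pr2 n m R) (xi_mem m R l) (xi_mem m R j)] at h2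
    exact ⟨h1.2, h2.2⟩
  · exact WW_le_segre n m R i j

lemma isPullback_XX : IsPullback (pr1 n m R) (pr2 n m R) (projStr (CohB1.polyGrading n R))
    (projStr (CohB1.polyGrading m R)) := IsPullback.of_hasPullback _ _

lemma isAffineOpen_Dp (i : Fin (n + 1)) : IsAffineOpen (Dp n R i) :=
  Proj.isAffineOpen_basicOpen (CohB1.polyGrading n R) _ (xi_mem n R i) Nat.one_pos

lemma isAffineOpen_WW (i : Fin (n + 1)) (j : Fin (m + 1)) : IsAffineOpen (WW n m R i j) := by
  have hUS : IsAffineOpen (⊤ : (Spec (CommRingCat.of R)).Opens) := isAffineOpen_top _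
  haveI : IsAffine (⊤ : (Spec (CommRingCat.of R)).Opens).toScheme := hUS
  haveI : IsAffine (Dp n R i).toScheme := isAffineOpen_Dp n R i
  haveI : IsAffine (Dp m R j).toScheme := isAffineOpen_Dp m R j
  exact .of_isIso (Scheme.Hom.isPullback_resLE (isPullback_XX n m R) (US := ⊤)
    (UT := Dp m R j) (UX := Dp n R i) le_top le_top rfl).isoPullback.hom

lemma isPushout_WW (i : Fin (n + 1)) (j : Fin (m + 1)) :
    IsPushout ((projStr (CohB1.polyGrading n R)).appLE ⊤ (Dp n R i) le_top)
      ((projStr (CohB1.polyGrading m R)).appLE ⊤ (Dp m R j) le_top)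
      ((pr1 n m R).appLE (Dp n R i) (WW n m R i j) (WW_le1 n m R i j))
      ((pr2 n m R).appLE (Dp m R j) (WW n m R i j) (WW_le2 n m R i j)) :=
  (isIso_pushoutSection_iff (isPullback_XX n m R) le_top le_top rfl).mp
    (isIso_pushoutSection_of_isAffineOpen _ _ _ _ (isAffineOpen_top _) (isAffineOpen_Dp m R j)
      (isAffineOpen_Dp n R i))

lemma be_self (j : Fin (m + 1)) {U : (XX n m R).Opens} (hU : U ≤ pr2 n m R ⁻¹ᵁ Dp m R j) :
    be n m R j j hU = 1 := by
  rw [be, frac1_self, map_one]

lemma al_self (i : Fin (n + 1)) {U : (XX n m R).Opens} (hU : U ≤ pr1 n m R ⁻¹ᵁ Dp n R i) :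
    al n m R i i hU = 1 := by
  rw [al, frac1_self, map_one]

/-- the Segre morphism is surjective on sections over the standard charts. -/
lemma segre_appLE_surjective (i : Fin (n + 1)) (j : Fin (m + 1)) :
    Function.Surjective ((segre n m R).appLE (Dp (n * m + n + m) R (idx n m (i, j)))
      (WW n m R i j) (WW_le_segre n m R i j)).hom := by
  set ψ := ((segre n m R).appLE (Dp (n * m + n + m) R (idx n m (i, j)))
      (WW n m R i j) (WW_le_segre n m R i j)).hom with hψ
  have hch : ∀ z : Away (CohB1.polyGrading (n * m + n + m) R)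
      (xi (n * m + n + m) R (idx n m (i, j))),
      chartHom (CohB1.polyGrading (n * m + n + m) R) (segre n m R)
        (xi (n * m + n + m) R (idx n m (i, j))) (WW_le_segre n m R i j) z ∈ ψ.range :=
    fun z => ⟨_, rfl⟩
  have hsc : ∀ a : R, (XX n m R).presheaf.map (homOfLE (le_top : WW n m R i j ≤ ⊤)).op
      (ProjUP.toGlobal (qq n m R) a) ∈ ψ.range := by
    intro a
    rw [← segre_projStr, ← chartHom_scalar (CohB1.polyGrading (n * m + n + m) R) (segre n m R)
      (xi_mem (n * m + n + m) R (idx n m (i, j))) Nat.one_pos (WW_le_segre n m R i j) a]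
    exact hch _
  have hal : ∀ k, al n m R i k (WW_le1 n m R i j) ∈ ψ.range := by
    intro k
    have h := hch (frac1 (CohB1.polyGrading (n * m + n + m) R) (ιPn _ R) (ιPn_mem _ R)
          (xi_mem (n * m + n + m) R (idx n m (i, j))) (ei (n * m + n + m) R (idx n m (k, j))))
    rwa [chartHom_segre, be_self, mul_one] at h
  have hbe : ∀ l, be n m R j l (WW_le2 n m R i j) ∈ ψ.range := by
    intro l
    have h := hch (frac1 (CohB1.polyGrading (n * m + n + m) R) (ιPn _ R) (ιPn_mem _ R)
          (xi_mem (n * m + n + m) R (idx n m (i, j))) (ei (n * m + n + m) R (idx n m (i, l))))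
    rwa [chartHom_segre, al_self, one_mul] at h
  have key : ψ.range = ⊤ := by
    apply subring_eq_top_of_isPushout (isPushout_WW n m R i j)
    · intro b
      obtain ⟨z, rfl⟩ := (PN.awayToSection_bijective (xi_mem n R i) Nat.one_pos).2 b
      have htop : ψ.range.comap (chartHom (CohB1.polyGrading n R) (pr1 n m R) (xi n R i)
          (WW_le1 n m R i j)) = ⊤ := by
        apply away_subring_eq_top (CohB1.polyGrading n R) (ιPn n R) (ιPn_mem n R)
          (isSymmetricAlgebra_ιPn n R) (fun k => ei n R k) (span_single n R) (xi_mem n R i)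
        · intro a
          rw [Subring.mem_comap, chartHom_scalar (CohB1.polyGrading n R) (pr1 n m R)
            (xi_mem n R i) Nat.one_pos (WW_le1 n m R i j) a]
          exact hsc a
        · intro k
          exact hal k
      have hz : z ∈ ψ.range.comap (chartHom (CohB1.polyGrading n R) (pr1 n m R) (xi n R i)
          (WW_le1 n m R i j)) := htop ▸ Subring.mem_top z
      exact hz
    · intro c
      obtain ⟨z, rfl⟩ := (PN.awayToSection_bijective (xi_mem m R j) Nat.one_pos).2 c
      have htop : ψ.range.comap (chartHom (CohB1.polyGrading m R) (pr2 n m R) (xi m R j)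
          (WW_le2 n m R i j)) = ⊤ := by
        apply away_subring_eq_top (CohB1.polyGrading m R) (ιPn m R) (ιPn_mem m R)
          (isSymmetricAlgebra_ιPn m R) (fun k => ei m R k) (span_single m R) (xi_mem m R j)
        · intro a
          rw [Subring.mem_comap, chartHom_scalar (CohB1.polyGrading m R) (pr2 n m R)
            (xi_mem m R j) Nat.one_pos (WW_le2 n m R i j) a, ← qq_eq]
          exact hsc a
        · intro l
          exact hbe l
      have hz : z ∈ ψ.range.comap (chartHom (CohB1.polyGrading m R) (pr2 n m R) (xi m R j)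
          (WW_le2 n m R i j)) := htop ▸ Subring.mem_top z
      exact hz
  exact RingHom.range_eq_top.1 key


end Setup

section General

lemma surjective_appLE_of_eq {X Y : Scheme.{u}} (f : X ⟶ Y) (U : Y.Opens) {W W' : X.Opens}
    (hW : W = W') (e : W ≤ f ⁻¹ᵁ U) (e' : W' ≤ f ⁻¹ᵁ U)
    (h : Function.Surjective (f.appLE U W e).hom) :
    Function.Surjective (f.appLE U W' e').hom := by
  subst hW
  exact h

lemma surjective_morphismRestrict_appTop {X Y : Scheme.{u}} (f : X ⟶ Y) (U : Y.Opens)
    (h : Function.Surjective (f.appLE U (f ⁻¹ᵁ U) le_rfl).hom) :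
    Function.Surjective (f ∣_ U).appTop.hom := by
  rw [← Scheme.Hom.resLE_eq_morphismRestrict]
  have h0 : (f.resLE U (f ⁻¹ᵁ U) le_rfl).appTop =
      U.topIso.hom ≫ f.appLE U (f ⁻¹ᵁ U) le_rfl ≫ (f ⁻¹ᵁ U).topIso.inv :=
    Scheme.Hom.resLE_app_top f le_rfl
  rw [h0]
  simp only [CommRingCat.hom_comp, RingHom.coe_comp]
  exact ((ConcreteCategory.bijective_of_isIso _).2.comp h).comp
    (ConcreteCategory.bijective_of_isIso _).2

end General

section Setup2
variable (n m : ℕ) (R : Type u) [CommRing R]

/-- **the Segre morphism over a ring is a closed immersion.** -/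
theorem isClosedImmersion_segre : IsClosedImmersion (segre n m R) := by
  let U : Fin (n * m + n + m + 1) → (Proj (CohB1.polyGrading (n * m + n + m) R)).affineOpens :=
    fun e => ⟨Dp (n * m + n + m) R e, isAffineOpen_Dp (n * m + n + m) R e⟩
  have hU : ⨆ e, (U e : (Proj (CohB1.polyGrading (n * m + n + m) R)).Opens) = ⊤ :=
    iSup_Dp (n * m + n + m) R
  rw [HasAffineProperty.iff_of_iSup_eq_top (P := @IsClosedImmersion) U hU]
  intro e
  obtain ⟨⟨i, j⟩, rfl⟩ := (idx n m).surjective e
  constructor
  · change IsAffineOpen (segre n m R ⁻¹ᵁ Dp (n * m + n + m) R (idx n m (i, j)))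
    rw [segre_preimage]
    exact isAffineOpen_WW n m R i j
  · apply surjective_morphismRestrict_appTop
    exact surjective_appLE_of_eq (segre n m R) _ (segre_preimage n m R i j).symm
      (WW_le_segre n m R i j) le_rfl (segre_appLE_surjective n m R i j)

end Setup2

end Groth.Agent.H5.Segre
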