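import Mathlib
import Groth.Agent.Lib.Helper5.Segre.D

/-! # Segre embedding, part E: base change to an arbitrary base scheme. -/

set_option autoImplicit false
universe u v
open CategoryTheory CategoryTheory.Limits AlgebraicGeometry

namespace Groth.Agent.H5.Segre

section Cat
variable {C : Type u} [Category.{v} C]
  {Z S Pn Pm PnS PmS Y Q : C}
  {pn : Pn ⟶ Z} {pm : Pm ⟶ Z} {t : S ⟶ Z} {πn : PnS ⟶ Pn} {bn : PnS ⟶ S} {πm : PmS ⟶ Pm}
  {bm : PmS ⟶ S} {f1 : Y ⟶ PnS} {f2 : Y ⟶ PmS} {pr1 : Q ⟶ Pn} {pr2 : Q ⟶ Pm} {w : Y ⟶ Q}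

/-- `(Pn ×_Z S) ×_S (Pm ×_Z S) = (Pn ×_Z Pm) ×_Z S`. -/
theorem isPullback_product_baseChange
    (hA : IsPullback πn bn pn t) (hB : IsPullback πm bm pm t) (hY : IsPullback f1 f2 bn bm)
    (hQ : IsPullback pr1 pr2 pn pm) (hw1 : w ≫ pr1 = f1 ≫ πn) (hw2 : w ≫ pr2 = f2 ≫ πm) :
    IsPullback (f1 ≫ bn) w t (pr1 ≫ pn) := by
  have R1 : IsPullback f2 (f1 ≫ πn) (bm ≫ t) pn := hY.flip.paste_vert hA.flip
  rw [← hB.w, ← hw1] at R1
  have R2 : IsPullback f2 w πm pr2 := R1.of_bot hw2.symm hQ.flip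
  have R3 : IsPullback (f2 ≫ bm) w t (pr2 ≫ pm) := R2.paste_horiz hB.flip
  rw [← hY.w, ← hQ.w] at R3
  exact R3

variable {PN PNS : C} {pN : PN ⟶ Z} {πN : PNS ⟶ PN} {bN : PNS ⟶ S}

/-- the base change of a morphism `σ : Pn ×_Z Pm ⟶ PN` over `Z` to `S`. -/
theorem isPullback_baseChange_of_product
    (hA : IsPullback πn bn pn t) (hB : IsPullback πm bm pm t) (hY : IsPullback f1 f2 bn bm)
    (hQ : IsPullback pr1 pr2 pn pm) (hw1 : w ≫ pr1 = f1 ≫ πn) (hw2 : w ≫ pr2 = f2 ≫ πm)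
    (hN : IsPullback πN bN pN t) {σ : Q ⟶ PN} (hσ : σ ≫ pN = pr1 ≫ pn) {φ : Y ⟶ PNS}
    (hφ1 : φ ≫ πN = w ≫ σ) (hφ2 : φ ≫ bN = f1 ≫ bn) : IsPullback w φ σ πN := by
  have R := isPullback_product_baseChange hA hB hY hQ hw1 hw2
  rw [← hφ2, ← hσ] at R
  exact (R.of_right hφ1 hN.flip).flip

/-- existence of the base change of `σ`, with any base-change-stable property. -/
theorem exists_baseChange_of_product
    (hA : IsPullback πn bn pn t) (hB : IsPullback πm bm pm t) (hY : IsPullback f1 f2 bn bm)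
    (hQ : IsPullback pr1 pr2 pn pm) (hN : IsPullback πN bN pN t) {σ : Q ⟶ PN}
    (hσ : σ ≫ pN = pr1 ≫ pn) (P : MorphismProperty C) [P.IsStableUnderBaseChange] (hP : P σ) :
    ∃ φ : Y ⟶ PNS, P φ ∧ φ ≫ bN = f1 ≫ bn := by
  obtain ⟨w, hw1, hw2⟩ : ∃ w : Y ⟶ Q, w ≫ pr1 = f1 ≫ πn ∧ w ≫ pr2 = f2 ≫ πm := by
    refine ⟨hQ.lift (f1 ≫ πn) (f2 ≫ πm) ?_, hQ.lift_fst _ _ _, hQ.lift_snd _ _ _⟩
    rw [Category.assoc, Category.assoc, hA.w, hB.w, ← Category.assoc, ← Category.assoc, hY.w]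
  obtain ⟨φ, hφ1, hφ2⟩ : ∃ φ : Y ⟶ PNS, φ ≫ πN = w ≫ σ ∧ φ ≫ bN = f1 ≫ bn := by
    refine ⟨hN.lift (w ≫ σ) (f1 ≫ bn) ?_, hN.lift_fst _ _ _, hN.lift_snd _ _ _⟩
    rw [Category.assoc, hσ, ← Category.assoc, hw1, Category.assoc, Category.assoc, hA.w]
  refine ⟨φ, ?_, hφ2⟩
  have sq := isPullback_baseChange_of_product hA hB hY hQ hw1 hw2 hN hσ hφ1 hφ2
  exact P.of_isPullback sq hP

end Cat

section Final
open Groth.Agent.H2.PUP

/-- **Segre embedding** over an arbitrary base. -/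
theorem exists_segre (S : Scheme.{u}) (n m : ℕ) :
    ∃ φ : pullback (CohB1.ProjSpaceOver.toBase n S) (CohB1.ProjSpaceOver.toBase m S) ⟶
        CohB1.ProjSpaceOver (n * m + n + m) S,
      IsClosedImmersion φ ∧ φ ≫ CohB1.ProjSpaceOver.toBase (n * m + n + m) S =
        pullback.fst (CohB1.ProjSpaceOver.toBase n S) (CohB1.ProjSpaceOver.toBase m S) ≫
          CohB1.ProjSpaceOver.toBase n S := by
  have hA : IsPullback (pullback.fst (CohB1.ProjSpace.toSpec n (ULift.{u} ℤ))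
      (specULiftZIsTerminal.from S)) (CohB1.ProjSpaceOver.toBase n S)
      (projStr (CohB1.polyGrading n (ULift.{u} ℤ))) (specULiftZIsTerminal.from S) :=
    IsPullback.of_hasPullback (CohB1.ProjSpace.toSpec n (ULift.{u} ℤ))
      (specULiftZIsTerminal.from S)
  have hB : IsPullback (pullback.fst (CohB1.ProjSpace.toSpec m (ULift.{u} ℤ))
      (specULiftZIsTerminal.from S)) (CohB1.ProjSpaceOver.toBase m S)
      (projStr (CohB1.polyGrading m (ULift.{u} ℤ))) (specULiftZIsTerminal.from S) :=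
    IsPullback.of_hasPullback (CohB1.ProjSpace.toSpec m (ULift.{u} ℤ))
      (specULiftZIsTerminal.from S)
  have hN : IsPullback (pullback.fst (CohB1.ProjSpace.toSpec (n * m + n + m) (ULift.{u} ℤ))
      (specULiftZIsTerminal.from S)) (CohB1.ProjSpaceOver.toBase (n * m + n + m) S)
      (projStr (CohB1.polyGrading (n * m + n + m) (ULift.{u} ℤ)))
      (specULiftZIsTerminal.from S) :=
    IsPullback.of_hasPullback (CohB1.ProjSpace.toSpec (n * m + n + m) (ULift.{u} ℤ))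
      (specULiftZIsTerminal.from S)
  have hY : IsPullback
      (pullback.fst (CohB1.ProjSpaceOver.toBase n S) (CohB1.ProjSpaceOver.toBase m S))
      (pullback.snd (CohB1.ProjSpaceOver.toBase n S) (CohB1.ProjSpaceOver.toBase m S))
      (CohB1.ProjSpaceOver.toBase n S) (CohB1.ProjSpaceOver.toBase m S) :=
    IsPullback.of_hasPullback _ _
  exact exists_baseChange_of_product hA hB hY (isPullback_XX n m (ULift.{u} ℤ)) hN
    (segre_projStr n m (ULift.{u} ℤ)) @IsClosedImmersion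
    (isClosedImmersion_segre n m (ULift.{u} ℤ))

end Final

end Groth.Agent.H5.Segre
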