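import Mathlib
import Groth.Agent.Lib.Helper5.Segre.E
import Groth.Agent.Lib.Helper5.AG.HProj

/-! # Composition of H-projective morphisms (via the Segre embedding). -/

set_option autoImplicit false
universe u
open CategoryTheory CategoryTheory.Limits AlgebraicGeometry

namespace Groth.Agent.H5.Segre

open Groth.Agent.H5.AG

theorem isHProjective_comp {X Y Z : Scheme.{u}} (f : X ⟶ Y) (g : Y ⟶ Z)
    (hf : RelProj.IsHProjective f) (hg : RelProj.IsHProjective g) :
    RelProj.IsHProjective (f ≫ g) := by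
  obtain ⟨n, i, hi, hif⟩ := hf
  obtain ⟨m, j, hj, hjg⟩ := hg
  obtain ⟨σ, hσ, hσb⟩ := exists_segre Z n m
  have hsq := projMap_isPullback n g
  have hprod : IsPullback
      (pullback.fst (CohB1.ProjSpaceOver.toBase n Z) (CohB1.ProjSpaceOver.toBase m Z))
      (pullback.snd (CohB1.ProjSpaceOver.toBase n Z) (CohB1.ProjSpaceOver.toBase m Z))
      (CohB1.ProjSpaceOver.toBase n Z) (CohB1.ProjSpaceOver.toBase m Z) :=
    IsPullback.of_hasPullback _ _
  let u : CohB1.ProjSpaceOver n Y ⟶
      pullback (CohB1.ProjSpaceOver.toBase n Z) (CohB1.ProjSpaceOver.toBase m Z) :=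
    hprod.lift (projMap n g) (CohB1.ProjSpaceOver.toBase n Y ≫ j) (by
      rw [hsq.w, Category.assoc, hjg])
  have hu1 : u ≫ pullback.fst (CohB1.ProjSpaceOver.toBase n Z)
      (CohB1.ProjSpaceOver.toBase m Z) = projMap n g := hprod.lift_fst _ _ _
  have hu2 : u ≫ pullback.snd (CohB1.ProjSpaceOver.toBase n Z)
      (CohB1.ProjSpaceOver.toBase m Z) = CohB1.ProjSpaceOver.toBase n Y ≫ j :=
    hprod.lift_snd _ _ _
  have hleft : IsPullback u (CohB1.ProjSpaceOver.toBase n Y)
      (pullback.snd (CohB1.ProjSpaceOver.toBase n Z) (CohB1.ProjSpaceOver.toBase m Z)) j := by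
    refine IsPullback.of_right ?_ hu2 hprod
    rw [hu1, hjg]
    exact hsq
  have hu : IsClosedImmersion u :=
    MorphismProperty.of_isPullback (P := @IsClosedImmersion) hleft.flip hj
  refine ⟨n * m + n + m, i ≫ u ≫ σ, inferInstance, ?_⟩
  rw [Category.assoc, Category.assoc, hσb, ← Category.assoc u, hu1, hsq.w, ← Category.assoc, hif]

end Groth.Agent.H5.Segre
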